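import Mathlib
import Cfsg.Agent.Lib.Helper28.CD3.Defs

/-!
# Project IPB (S4463, Isaacs-Passman): an abelian subgroup of index at most `(b!)^2`.
Definitions shared by all pieces.  See PLAN.md and Skel.lean.txt in this folder.
-/

set_option autoImplicit false
open scoped commutatorElement

namespace Cfsg.Agent.Lib.Helper28.IPB

universe u

/-- all irreducible character degrees of `G` are at most `b` -/
def DegLe (G : Type u) [Group G] (b : ℕ) : Prop :=
  ∀ χ : Cfsg.IrrCharacter G, Cfsg.charDegree (χ : G → ℂ) ≤ b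

/-- `G` has an abelian subgroup of index at most `n` -/
def HasAb (G : Type u) [Group G] (n : ℕ) : Prop :=
  ∃ A : Subgroup G, (∀ x ∈ A, ∀ y ∈ A, x * y = y * x) ∧ A.index ≤ n

/-- the reduction step: a subgroup `H` all of whose degrees are `≤ c < b`, with
`|G:H| (c!)^2 ≤ (b!)^2` -/
def Step (G : Type u) [Group G] (b : ℕ) : Prop :=
  ∃ (H : Subgroup G) (c : ℕ), c < b ∧ DegLe H c ∧
    H.index * (c.factorial) ^ 2 ≤ (b.factorial) ^ 2

end Cfsg.Agent.Lib.Helper28.IPB
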