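import Mathlib
import Cfsg.Agent.Lib.Helper28.IPB.Defs
import Cfsg.Agent.Lib.Helper19.CD3BASIC
import Cfsg.Agent.Lib.helper23.CD3OVERQ

/-!
# Project IPB, pieces BASIC, ARITH, QHYP (lead)
-/

set_option autoImplicit false
open scoped commutatorElement Nat
open Cfsg.Agent.Lib.Helper28.CD3 (cdOver FrobData)

namespace Cfsg.Agent.Lib.Helper28.IPB

universe u

section basics
variable {G : Type u} [Group G]

-- piece BASIC (lead)
theorem degLe_mono {b c : ℕ} (h : b ≤ c) (hG : DegLe G b) : DegLe G c :=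
  fun χ => (hG χ).trans h

theorem one_le_of_degLe [Finite G] {b : ℕ} (hG : DegLe G b) : 1 ≤ b := by
  obtain ⟨χ, hχ⟩ := CD3.one_mem_cd G
  have := hG χ
  omega

theorem degLe_of_cd [Finite G] {b : ℕ} (h : ∀ d ∈ Cfsg.charDegrees G, d ≤ b) : DegLe G b :=
  fun χ => h _ ⟨χ, rfl⟩

theorem cd_le_of_degLe {b d : ℕ} (hG : DegLe G b) (hd : d ∈ Cfsg.charDegrees G) : d ≤ b := by
  obtain ⟨χ, rfl⟩ := hd
  exact hG χ

theorem two_le_of_nonab [Finite G] {b : ℕ} (hG : DegLe G b)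
    (hna : ¬ ∀ x y : G, x * y = y * x) : 2 ≤ b := by
  by_contra hlt
  apply hna
  rw [← CD3.cd_eq_one_iff]
  ext d
  constructor
  · intro hd
    have h1 := cd_le_of_degLe hG hd
    have h2 := CD3.cd_pos hd
    rw [Set.mem_singleton_iff]
    omega
  · intro hd
    rw [Set.mem_singleton_iff] at hd
    rw [hd]
    exact CD3.one_mem_cd G

theorem degLe_quot [Finite G] {b : ℕ} (hG : DegLe G b) (K : Subgroup G) [K.Normal] :
    DegLe (G ⧸ K) b := by
  apply degLe_of_cd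
  intro d hd
  rw [← CD3.cdOver_eq_quot K] at hd
  exact cd_le_of_degLe hG (CD3.cdOver_subset K hd)

theorem hasAb_of_sub (H : Subgroup G) {n : ℕ} (h : HasAb H n) : HasAb G (H.index * n) := by
  obtain ⟨A, hA, hAi⟩ := h
  refine ⟨A.map H.subtype, ?_, ?_⟩
  · intro x hx y hy
    obtain ⟨x', hx', rfl⟩ := Subgroup.mem_map.mp hx
    obtain ⟨y', hy', rfl⟩ := Subgroup.mem_map.mp hy
    have := hA x' hx' y' hy'
    rw [← map_mul, ← map_mul, this]
  · rw [Subgroup.index_map_subtype, mul_comm]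
    exact Nat.mul_le_mul_left _ hAi

-- piece ARITH (lead)
theorem step_i {b : ℕ} (hb : 1 ≤ b) (H : Subgroup G) (hidx : H.index ≤ b ^ 2)
    (hdeg : DegLe H (b - 1)) : Step G b := by
  refine ⟨H, b - 1, by omega, hdeg, ?_⟩
  calc H.index * ((b - 1)!) ^ 2 ≤ b ^ 2 * ((b - 1)!) ^ 2 := Nat.mul_le_mul_right _ hidx
    _ = (b * (b - 1)!) ^ 2 := by ring
    _ = (b !) ^ 2 := by rw [Nat.mul_factorial_pred (by omega)]

theorem ipbarith_ii (b : ℕ) (hb : 3 ≤ b) : b ^ 3 * ((b / 2)!) ^ 2 ≤ (b !) ^ 2 := by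
  obtain ⟨k, rfl⟩ : ∃ k, b = k + 2 := ⟨b - 2, by omega⟩
  have h1 : (k + 2)! = (k + 2) * ((k + 1) * k !) := by
    rw [Nat.factorial_succ, Nat.factorial_succ]
  have h2 : ((k + 2) / 2)! ≤ k ! := Nat.factorial_le (by omega)
  have h3 : (k + 2) ≤ (k + 1) ^ 2 := by nlinarith
  rw [h1]
  calc (k + 2) ^ 3 * (((k + 2) / 2)!) ^ 2 ≤ (k + 2) ^ 3 * (k !) ^ 2 :=
        Nat.mul_le_mul_left _ (Nat.pow_le_pow_left h2 2)
    _ = (k + 2) ^ 2 * (k + 2) * (k !) ^ 2 := by ring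
    _ ≤ (k + 2) ^ 2 * (k + 1) ^ 2 * (k !) ^ 2 :=
        Nat.mul_le_mul_right _ (Nat.mul_le_mul_left _ h3)
    _ = ((k + 2) * ((k + 1) * k !)) ^ 2 := by ring

theorem ipbarith_iii (b : ℕ) (hb : 5 ≤ b) : b ^ 4 * ((b / 2)!) ^ 2 ≤ (b !) ^ 2 := by
  obtain ⟨k, rfl⟩ : ∃ k, b = k + 3 := ⟨b - 3, by omega⟩
  have h1 : (k + 3)! = (k + 3) * ((k + 2) * ((k + 1) * k !)) := by
    rw [Nat.factorial_succ, Nat.factorial_succ, Nat.factorial_succ]
  have h2 : ((k + 3) / 2)! ≤ k ! := Nat.factorial_le (by omega)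
  have h3 : (k + 3) ≤ (k + 2) * (k + 1) := by nlinarith
  have h4 : (k + 3) ^ 2 ≤ ((k + 2) * (k + 1)) ^ 2 := Nat.pow_le_pow_left h3 2
  rw [h1]
  calc (k + 3) ^ 4 * (((k + 3) / 2)!) ^ 2 ≤ (k + 3) ^ 4 * (k !) ^ 2 :=
        Nat.mul_le_mul_left _ (Nat.pow_le_pow_left h2 2)
    _ = (k + 3) ^ 2 * (k + 3) ^ 2 * (k !) ^ 2 := by ring
    _ ≤ (k + 3) ^ 2 * ((k + 2) * (k + 1)) ^ 2 * (k !) ^ 2 :=
        Nat.mul_le_mul_right _ (Nat.mul_le_mul_left _ h4)
    _ = ((k + 3) * ((k + 2) * ((k + 1) * k !))) ^ 2 := by ring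

theorem step_ii {b : ℕ} (hb : 3 ≤ b) (H : Subgroup G) (hidx : H.index ≤ b ^ 3)
    (hdeg : DegLe H (b / 2)) : Step G b := by
  refine ⟨H, b / 2, by omega, hdeg, ?_⟩
  exact (Nat.mul_le_mul_right _ hidx).trans (ipbarith_ii b hb)

theorem step_iii {b : ℕ} (hb : 5 ≤ b) (H : Subgroup G) (hidx : H.index ≤ b ^ 4)
    (hdeg : DegLe H (b / 2)) : Step G b := by
  refine ⟨H, b / 2, by omega, hdeg, ?_⟩
  exact (Nat.mul_le_mul_right _ hidx).trans (ipbarith_iii b hb)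

-- piece QHYP (lead): transport of the maximality of `K` to `G ⧸ K`
theorem quot_hyps (K : Subgroup G) [K.Normal] (hK : ¬ commutator G ≤ K)
    (hmax : ∀ N : Subgroup G, N.Normal → K < N → commutator G ≤ N) :
    commutator (G ⧸ K) ≠ ⊥ ∧
      ∀ N : Subgroup (G ⧸ K), N.Normal → N ≠ ⊥ → commutator (G ⧸ K) ≤ N := by
  classical
  set π := QuotientGroup.mk' K with hπ
  have hπs : Function.Surjective π := QuotientGroup.mk'_surjective K
  have hcomm : commutator (G ⧸ K) = (commutator G).map π := by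
    rw [commutator_def, commutator_def, Subgroup.map_commutator, ← MonoidHom.range_eq_map,
      MonoidHom.range_eq_top.mpr hπs]
  have hker : π.ker = K := QuotientGroup.ker_mk' K
  refine ⟨?_, ?_⟩
  · intro h0
    apply hK
    rw [hcomm, (Subgroup.map_eq_bot_iff _), hker] at h0
    exact h0
  · intro Nb hNb hne
    have hKle : K ≤ Nb.comap π := by
      intro x hx
      rw [Subgroup.mem_comap]
      have : π x = 1 := by rw [← MonoidHom.mem_ker, hker]; exact hx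
      rw [this]; exact Nb.one_mem
    have hlt : K < Nb.comap π := by
      refine lt_of_le_of_ne hKle ?_
      intro heq
      apply hne
      rw [eq_bot_iff]
      intro y hy
      obtain ⟨x, rfl⟩ := hπs y
      have hx : x ∈ Nb.comap π := hy
      rw [← heq, ← hker, MonoidHom.mem_ker] at hx
      rw [Subgroup.mem_bot]; exact hx
    have h1 := hmax (Nb.comap π) (hNb.comap π) hlt
    rw [hcomm]
    exact (Subgroup.map_le_iff_le_comap).mpr h1

end basics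

end Cfsg.Agent.Lib.Helper28.IPB
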