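import Mathlib
import Cfsg.Agent.Lib.Helper28.IPB.Defs
import Cfsg.Agent.Lib.Helper25.ItoSolvable
import Cfsg.Agent.Lib.helper7.CharTools
import Cfsg.Agent.Lib.helper7.Induction
import Cfsg.Agent.Lib.helper2.CharNat
import Cfsg.Agent.Lib.helper2.CharInd

/-!
# Project IPB, pieces T0, T1, T2 (lead)
-/

set_option autoImplicit false
open scoped commutatorElement ComplexConjugate

namespace Cfsg.Agent.Lib.Helper28.IPB

universe u

section tools
variable {G : Type u} [Group G]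

open Cfsg.Agent.Lib.helper2 Cfsg.Agent.Lib.helper7 Cfsg.Agent.Lib.Helper25 in
/-- a constituent of the restriction has smaller degree -/
theorem ipbt0_deg_le [Fintype G] (H : Subgroup G) [Fintype H] (χ : Cfsg.IrrCharacter G)
    (θ : Cfsg.IrrCharacter H)
    (hne : Cfsg.classInner (fun h : H => (χ : G → ℂ) h) (θ : H → ℂ) ≠ 0) :
    Cfsg.charDegree (θ : H → ℂ) ≤ Cfsg.charDegree (χ : G → ℂ) := by
  classical
  have hres := isCharacter_restrict (isCharacter_of_irr χ) H
  obtain ⟨m, hm⟩ := classInner_character_nat hres (isCharacter_of_irr θ)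
  have hm0 : m ≠ 0 := by
    rintro rfl
    apply hne
    rw [hm]
    simp
  have h1 := isCharacter_degree_ge hres θ m (Cfsg.charDegree (χ : G → ℂ))
    (Cfsg.charDegree (θ : H → ℂ)) hm
    (by
      show (χ : G → ℂ) ((1 : H) : G) = _
      rw [Subgroup.coe_one]
      exact (charDegree_irr χ).1.symm)
    (charDegree_irr θ).1.symm
  have hm1 : 1 ≤ m := Nat.one_le_iff_ne_zero.mpr hm0
  calc Cfsg.charDegree (θ : H → ℂ) = 1 * Cfsg.charDegree (θ : H → ℂ) := (one_mul _).symm
    _ ≤ m * Cfsg.charDegree (θ : H → ℂ) := Nat.mul_le_mul_right _ hm1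
    _ ≤ _ := h1

-- piece T0
open Cfsg.Agent.Lib.Helper25 in
theorem degLe_sub [Finite G] {b : ℕ} (hG : DegLe G b) (H : Subgroup G) : DegLe H b := by
  classical
  haveI := Fintype.ofFinite G
  haveI : Fintype H := Fintype.ofFinite H
  intro θ
  obtain ⟨χ, hχ⟩ := itn_exists_over H θ
  exact (ipbt0_deg_le H χ θ hχ).trans (hG χ)

open Cfsg.Agent.Lib.helper2 Cfsg.Agent.Lib.helper7 Cfsg.Agent.Lib.Helper25 in
/-- a character of `G` of degree `≤ b` over `θ` of degree `b` restricts to `θ` -/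
theorem ipbt1_res_eq [Fintype G] {b : ℕ} (hG : DegLe G b) (H : Subgroup G) [Fintype H]
    (θ : Cfsg.IrrCharacter H) (hθ : Cfsg.charDegree (θ : H → ℂ) = b) (χ : Cfsg.IrrCharacter G)
    (hne : Cfsg.classInner (fun h : H => (χ : G → ℂ) h) (θ : H → ℂ) ≠ 0) :
    ∀ h : H, (χ : G → ℂ) h = (θ : H → ℂ) h := by
  classical
  have hres := isCharacter_restrict (isCharacter_of_irr χ) H
  obtain ⟨Δ, hΔ, hsplit⟩ := h7_char_split hres (θ : H → ℂ) θ.2 hne
  have h1 := ipbt0_deg_le H χ θ hne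
  have h2 := hG χ
  have hdeg : Cfsg.charDegree (χ : G → ℂ) = Cfsg.charDegree (θ : H → ℂ) := by omega
  have hΔ1 : Δ 1 = 0 := by
    have h3 := congrFun hsplit 1
    simp only [Pi.add_apply] at h3
    rw [Subgroup.coe_one, ← (charDegree_irr χ).1, ← (charDegree_irr θ).1, hdeg] at h3
    have : Δ 1 = ((Cfsg.charDegree (θ : H → ℂ) : ℕ) : ℂ) + Δ 1 - (Cfsg.charDegree (θ : H → ℂ) : ℕ) := by
      ring
    rw [this, ← h3]
    ring
  have hΔ0 := h7_isCharacter_eq_zero hΔ hΔ1
  intro h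
  have := congrFun hsplit h
  simp only [Pi.add_apply] at this
  rw [this, hΔ0]
  simp

-- piece T1
open Cfsg.Agent.Lib.helper2 Cfsg.Agent.Lib.helper7 Cfsg.Agent.Lib.Helper25 in
theorem ext_of_max [Fintype G] {b : ℕ} (hb : 0 < b) (hG : DegLe G b) (H : Subgroup G)
    (θ : Cfsg.IrrCharacter H) (hθ : Cfsg.charDegree (θ : H → ℂ) = b) :
    (∃ χ : Cfsg.IrrCharacter G, ∀ h : H, (χ : G → ℂ) h = (θ : H → ℂ) h) ∧
      ∀ h : H, Cfsg.indFun H (θ : H → ℂ) (h : G) = (H.index : ℂ) * (θ : H → ℂ) h := by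
  classical
  haveI : Fintype H := Fintype.ofFinite H
  haveI : Fintype (Cfsg.IrrCharacter G) := Fintype.ofFinite _
  refine ⟨?_, ?_⟩
  · obtain ⟨χ, hχ⟩ := itn_exists_over H θ
    exact ⟨χ, ipbt1_res_eq hG H θ hθ χ hχ⟩
  · have hΦ : Cfsg.IsCharacter G (Cfsg.indFun H (θ : H → ℂ)) :=
      isCharacter_indFun H θ.1 (isCharacter_of_irr θ)
    obtain ⟨m, hm, hexp⟩ := isCharacter_expansion hΦ
    -- constituents restrict to θ
    have hkey : ∀ χ : Cfsg.IrrCharacter G, m χ ≠ 0 → ∀ h : H, (χ : G → ℂ) h = (θ : H → ℂ) h := by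
      intro χ hχ
      apply ipbt1_res_eq hG H θ hθ χ
      have h1 := hm χ
      rw [h7_frobenius_reciprocity H (θ : H → ℂ) (χ : G → ℂ)
        (isCharacter_isClassFunction (isCharacter_of_irr χ))] at h1
      have h2 := classInner_symm_of_nat _ _ _ h1
      rw [h2]
      exact_mod_cast hχ
    have hval : ∀ h : H, Cfsg.indFun H (θ : H → ℂ) (h : G) =
        ((∑ χ : Cfsg.IrrCharacter G, m χ : ℕ) : ℂ) * (θ : H → ℂ) h := by
      intro h
      have h1 := congrFun hexp (h : G)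
      rw [h1]
      simp only [Finset.sum_apply, Pi.smul_apply, smul_eq_mul]
      push_cast
      rw [Finset.sum_mul]
      apply Finset.sum_congr rfl
      intro χ _
      by_cases hχ : m χ = 0
      · rw [hχ]; simp
      · rw [hkey χ hχ h]
    have h1 := hval 1
    rw [Subgroup.coe_one, h7_indFun_one] at h1
    have hθ1 : (θ : H → ℂ) 1 ≠ 0 := irr_one_ne_zero θ
    have h2 : (H.index : ℂ) = ((∑ χ : Cfsg.IrrCharacter G, m χ : ℕ) : ℂ) :=
      mul_right_cancel₀ hθ1 h1
    intro h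
    rw [hval h, h2]

-- piece T2
open Cfsg.Agent.Lib.helper2 Cfsg.Agent.Lib.helper7 Cfsg.Agent.Lib.Helper25 in
theorem vanish_off_core [Finite G] {b : ℕ} (hb : 0 < b) (hG : DegLe G b) (H : Subgroup G)
    (θ : Cfsg.IrrCharacter H) (hθ : Cfsg.charDegree (θ : H → ℂ) = b) :
    ∀ h : H, (h : G) ∉ H.normalCore → (θ : H → ℂ) h = 0 := by
  classical
  haveI := Fintype.ofFinite G
  haveI : Fintype H := Fintype.ofFinite H
  obtain ⟨⟨χ, hχ⟩, hind⟩ := ext_of_max hb hG H θ hθ
  intro h hh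
  by_contra hne
  apply hh
  have hcl := isCharacter_isClassFunction (isCharacter_of_irr χ)
  -- the induction formula
  have h1 : Cfsg.indFun H (θ : H → ℂ) (h : G) = (Nat.card H : ℂ)⁻¹ *
      (((Finset.univ.filter (fun x : G => x⁻¹ * (h : G) * x ∈ H)).card : ℂ) * (θ : H → ℂ) h) := by
    unfold Cfsg.indFun
    congr 1
    rw [Finset.card_eq_sum_ones, Nat.cast_sum, Finset.sum_mul, Finset.sum_filter]
    apply Finset.sum_congr rfl
    intro x _
    by_cases hx : x⁻¹ * (h : G) * x ∈ H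
    · rw [if_pos hx, h7_extendByZero_mem H _ _ hx, ← hχ ⟨_, hx⟩]
      show (χ : G → ℂ) (x⁻¹ * (h : G) * x) = _
      have := hcl (h : G) x⁻¹
      rw [inv_inv] at this
      rw [this, hχ h]
      simp
    · rw [if_neg hx, h7_extendByZero_not_mem H _ _ hx]
  rw [hind h] at h1
  have hH0 : (Nat.card H : ℂ) ≠ 0 := by exact_mod_cast Nat.card_pos.ne'
  have h2 : (H.index : ℂ) * (Nat.card H : ℂ) =
      ((Finset.univ.filter (fun x : G => x⁻¹ * (h : G) * x ∈ H)).card : ℂ) := by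
    have h3 : (H.index : ℂ) * (Nat.card H : ℂ) * (θ : H → ℂ) h =
        ((Finset.univ.filter (fun x : G => x⁻¹ * (h : G) * x ∈ H)).card : ℂ) * (θ : H → ℂ) h := by
      have : (H.index : ℂ) * (Nat.card H : ℂ) * (θ : H → ℂ) h =
          (Nat.card H : ℂ) * ((H.index : ℂ) * (θ : H → ℂ) h) := by ring
      rw [this, h1]
      field_simp
    exact mul_right_cancel₀ hne h3
  have h3 : (Finset.univ.filter (fun x : G => x⁻¹ * (h : G) * x ∈ H)).card = Fintype.card G := by
    have : H.index * Nat.card H =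
        (Finset.univ.filter (fun x : G => x⁻¹ * (h : G) * x ∈ H)).card := by exact_mod_cast h2
    rw [← this, Subgroup.index_mul_card, Nat.card_eq_fintype_card]
  have h4 : Finset.univ.filter (fun x : G => x⁻¹ * (h : G) * x ∈ H) = Finset.univ := by
    apply Finset.eq_univ_of_card
    exact h3
  intro g
  have : g⁻¹ ∈ Finset.univ.filter (fun x : G => x⁻¹ * (h : G) * x ∈ H) := by
    rw [h4]; exact Finset.mem_univ _
  have := (Finset.mem_filter.mp this).2
  rwa [inv_inv] at this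

end tools

end Cfsg.Agent.Lib.Helper28.IPB
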