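import Mathlib
import Cfsg.Agent.Lib.Helper28.IPB.Defs
import Cfsg.Agent.Lib.Helper28.IPB.Basic
import Cfsg.Agent.Lib.Helper28.IPB.Tools
import Cfsg.Agent.Lib.Helper28.CD3.Wrap
import Cfsg.Agent.Lib.Helper25.IPBT3

set_option autoImplicit false
open scoped commutatorElement
open Cfsg.Agent.Lib.Helper28.CD3 (cdOver FrobData)

namespace Cfsg.Agent.Lib.Helper28.IPB

universe u

section caseB
variable {G : Type u} [Group G]

theorem ipbb_caseB [Finite G] {b : ℕ} (hG : DegLe G b) (K N : Subgroup G) (p : ℕ)
    (hF : FrobData G K N p) : Step G b := by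
  have hKn := hF.hKn
  have hNn := hF.hNn
  have hb1 := one_le_of_degLe hG
  have hNb : N.index ≤ b := cd_le_of_degLe hG (CD3.cdOver_subset K hF.hNcd)
  by_cases hN : DegLe N (b - 1)
  · refine step_i hb1 N ?_ hN
    calc N.index ≤ b := hNb
      _ ≤ b ^ 2 := by nlinarith
  · unfold DegLe at hN
    push Not at hN
    obtain ⟨ψ, hψ⟩ := hN
    have hψb : Cfsg.charDegree (ψ : N → ℂ) = b := by
      have := degLe_sub hG N ψ
      omega
    -- G/K is not abelian
    have hK : ¬ commutator G ≤ K := by
      intro hle
      obtain ⟨x, hxN, hxK⟩ := SetLike.exists_of_lt hF.hKN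
      have hNtop : N ≠ ⊤ := by
        intro h
        have := hF.hN1
        rw [h, Subgroup.index_top] at this
        omega
      obtain ⟨g, hg⟩ : ∃ g : G, g ∉ N := by
        by_contra hcon
        push Not at hcon
        exact hNtop (eq_top_iff.mpr fun g _ => hcon g)
      apply hxK
      apply hF.hfpf g hg x hxN
      apply hle
      exact Subgroup.commutator_mem_commutator (Subgroup.mem_top g) (Subgroup.mem_top x)
    have hhalf : DegLe K (b / 2) := by
      intro ζ
      obtain ⟨χ, hχ⟩ := exists_over_two_mul K hK ζ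
      have := hG χ
      omega
    rcases CD3.frob_degree K N hF.hKN.le hF.hab hF.hfpf ψ with h | h
    · exfalso
      have h1 := cd_le_of_degLe hG h
      rw [hψb] at h1
      have := hF.hN1
      nlinarith
    · rw [hψb] at h
      have hrel : K.relIndex N ≤ b ^ 2 := Nat.le_of_dvd (by positivity) h
      have hKidx : K.index ≤ b ^ 3 := by
        rw [← Subgroup.relIndex_mul_index hF.hKN.le]
        calc K.relIndex N * N.index ≤ b ^ 2 * b := Nat.mul_le_mul hrel hNb
          _ = b ^ 3 := by ring
      have hb3 : 3 ≤ b := by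
        by_contra hlt
        have hb2 : b = 2 := by
          have := hF.hN1
          omega
        subst hb2
        have hN2 : N.index = 2 := by
          have := hF.hN1
          omega
        obtain ⟨a, ha, hpa⟩ := hF.hidx
        rw [hpa] at h
        have hp4 : p ∣ 2 ^ 2 := (dvd_pow_self p ha.ne').trans h
        have hp2 : p ∣ 2 := hF.hp.dvd_of_dvd_pow hp4
        apply hF.hpN
        rw [hN2]
        exact hp2
      exact step_ii hb3 K hKidx hhalf

end caseB

end Cfsg.Agent.Lib.Helper28.IPB
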