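import Mathlib
import Cfsg.Agent.Lib.Helper28.IPB.Defs
import Cfsg.Agent.Lib.Helper28.IPB.Basic
import Cfsg.Agent.Lib.Helper28.IPB.Tools
import Cfsg.Agent.Lib.Helper28.CD3.Main
import Cfsg.Agent.Lib.helper2.IPBT2B
import Cfsg.Agent.Lib.Helper25.IPBT3
import Cfsg.Agent.Lib.Helper25.IPBA1
import Cfsg.Agent.Lib.Helper25.IPBA2
import Cfsg.Agent.Lib.Helper22.IPBAcore
import Cfsg.Agent.Lib.Helper26.IPBC2
import Cfsg.Agent.Lib.helper2.IPBC3
import Cfsg.Agent.Lib.Helper28.IPB.CaseB

/-!
# Project IPB (S4463): assembly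
-/

set_option autoImplicit false
open scoped commutatorElement
open Cfsg.Agent.Lib.Helper28.CD3 (cdOver FrobData)

namespace Cfsg.Agent.Lib.Helper28.IPB

universe u

section assembly
variable {G : Type u} [Group G]

theorem core_relIndex_le [Finite G] {b : ℕ} (hb : 0 < b) (hG : DegLe G b) (H : Subgroup G)
    (θ : Cfsg.IrrCharacter H) (hθ : Cfsg.charDegree (θ : H → ℂ) = b) :
    H.normalCore.relIndex H ≤ b ^ 2 := by
  have h1 := index_le_of_vanish (X := H) (H.normalCore.subgroupOf H) θ (fun x hx => by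
    apply vanish_off_core hb hG H θ hθ x
    intro hx'
    exact hx (Subgroup.mem_subgroupOf.mpr hx'))
  rw [hθ] at h1
  exact h1

theorem degLe_half [Finite G] {b : ℕ} (hG : DegLe G b) (K : Subgroup G) [K.Normal]
    (hK : ¬ commutator G ≤ K) : DegLe K (b / 2) := by
  intro ζ
  obtain ⟨χ, hχ⟩ := exists_over_two_mul K hK ζ
  have := hG χ
  omega

-- piece C (assembly)
theorem caseC [Finite G] {b : ℕ} (hG : DegLe G b) (K : Subgroup G) [K.Normal]
    (hK : ¬ commutator G ≤ K) (hns : ¬ Group.IsSolvable (G ⧸ K))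
    (hmax : ∀ N : Subgroup G, N.Normal → K < N → commutator G ≤ N) : Step G b := by
  have hb1 := one_le_of_degLe hG
  obtain ⟨H, hKH, hidx, hcore⟩ := exists_corefree hG K hK hns hmax
  by_cases hH : DegLe H (b - 1)
  · exact step_i hb1 H hidx hH
  · unfold DegLe at hH
    push Not at hH
    obtain ⟨θ, hθ⟩ := hH
    have hθb : Cfsg.charDegree (θ : H → ℂ) = b := by
      have := degLe_sub hG H θ
      omega
    have hrel := core_relIndex_le (by omega) hG H θ hθb
    rw [hcore] at hrel
    have hKidx : K.index ≤ b ^ 4 := by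
      rw [← Subgroup.relIndex_mul_index hKH]
      calc K.relIndex H * H.index ≤ b ^ 2 * b ^ 2 := Nat.mul_le_mul hrel hidx
        _ = b ^ 4 := by ring
    have hb5 : 5 ≤ b := by
      by_contra hlt
      apply hns
      exact solvable_of_degLe_four _ (degLe_mono (by omega) (degLe_quot hG K))
    exact step_iii hb5 K hKidx (degLe_half hG K hK)

theorem step_of_nonab [Finite G] {b : ℕ} (hG : DegLe G b)
    (hna : ¬ ∀ x y : G, x * y = y * x) : Step G b := by
  have hbot : ¬ commutator G ≤ ⊥ := by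
    intro h
    apply hna
    intro x y
    have : ⁅x, y⁆ ∈ commutator G :=
      Subgroup.commutator_mem_commutator (Subgroup.mem_top x) (Subgroup.mem_top y)
    have h1 := h this
    rw [Subgroup.mem_bot, commutatorElement_eq_one_iff_mul_comm] at h1
    exact h1
  obtain ⟨K, hKn, -, hK, hmax⟩ := CD3.exists_maxK (⊥ : Subgroup G) hbot
  have := hKn
  by_cases hs : Group.IsSolvable (G ⧸ K)
  · rcases CD3.cd3w_quot_dichotomy K hs hK hmax with ⟨p, hp, hpK⟩ | ⟨N, p, hF⟩
    · exact ipba_core (fun X _ _ p hp hX hna hq => pgroup_ramified X p hp hX hna hq)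
        (fun Z ψ hv hidx h1 => degLt_of_ramified hG Z ψ hv hidx h1) hG K hK hmax p hp hpK
    · exact ipbb_caseB hG K N p hF
  · exact caseC hG K hK hs hmax

theorem main : ∀ (b : ℕ) (G : Type u) [Group G] [Finite G], DegLe G b →
    HasAb G ((b.factorial) ^ 2) := by
  intro b
  induction b using Nat.strong_induction_on with
  | _ b ih =>
    intro G _ _ hG
    by_cases hab : ∀ x y : G, x * y = y * x
    · refine ⟨⊤, fun x _ y _ => hab x y, ?_⟩
      rw [Subgroup.index_top]
      exact Nat.one_le_iff_ne_zero.mpr (by positivity)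
    · obtain ⟨H, c, hc, hH, hle⟩ := step_of_nonab hG hab
      obtain ⟨A, hA, hAi⟩ := hasAb_of_sub H (ih c hc H hH)
      exact ⟨A, hA, hAi.trans hle⟩

end assembly

end Cfsg.Agent.Lib.Helper28.IPB
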